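import Groth.Agent.Lib.FibDim14.Comp
import Groth.Agent.Lib.VarDim.Top
import Mathlib.AlgebraicGeometry.Morphisms.Etale
import Mathlib.AlgebraicGeometry.Morphisms.UniversallyOpen

/-!
# Fibres of étale squares
-/

universe u

set_option autoImplicit false
set_option linter.style.haveILetI false
set_option backward.isDefEq.respectTransparency.types false

open AlgebraicGeometry CategoryTheory CategoryTheory.Limits

namespace Groth.Agent.EtaleFibre12

open FibDim14

variable {X Y : Scheme.{u}} (f : X ⟶ Y)

theorem finite_residueFieldMap [FormallyUnramified f] [LocallyOfFiniteType f] (x : X) :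
    (f.residueFieldMap x).hom.Finite := by
  algebraize [(f.stalkMap x).hom]
  have : IsLocalHom (algebraMap (Y.presheaf.stalk (f x)) (X.presheaf.stalk x)) :=
    inferInstanceAs <| IsLocalHom (f.stalkMap x).hom
  have : Algebra.EssFiniteType (Y.presheaf.stalk (f x)) (X.presheaf.stalk x) := by
    rw [← RingHom.essFiniteType_algebraMap, RingHom.algebraMap_toAlgebra]
    exact LocallyOfFiniteType.stalkMap f x
  have : Algebra.FormallyUnramified (Y.presheaf.stalk (f x)) (X.presheaf.stalk x) := by
    rw [← RingHom.formallyUnramified_algebraMap, RingHom.algebraMap_toAlgebra]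
    exact FormallyUnramified.stalkMap f x
  have h : Module.Finite (IsLocalRing.ResidueField <| Y.presheaf.stalk (f x))
      (IsLocalRing.ResidueField <| X.presheaf.stalk x) := inferInstance
  rw [RingHom.Finite]
  convert! h
  refine Module.ext' _ _ fun r m => ?_
  obtain ⟨r, rfl⟩ := IsLocalRing.residue_surjective r
  obtain ⟨m, rfl⟩ := IsLocalRing.residue_surjective m
  rfl

theorem etale_SpecMap_residueFieldMap [FormallyUnramified f] [LocallyOfFiniteType f] (x : X) :
    Etale (Spec.map (f.residueFieldMap x)) := by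
  haveI : IsIso (pullback.diagonal (X.fromSpecResidueField x)) :=
    (pullback.isIso_diagonal_iff _).2 inferInstance
  haveI : FormallyUnramified (Spec.map (f.residueFieldMap x) ≫ Y.fromSpecResidueField (f x)) := by
    rw [Scheme.Hom.SpecMap_residueFieldMap_fromSpecResidueField]
    haveI : FormallyUnramified (X.fromSpecResidueField x) := inferInstance
    exact MorphismProperty.comp_mem _ _ _ ‹FormallyUnramified (X.fromSpecResidueField x)› ‹_›
  haveI : FormallyUnramified (Spec.map (f.residueFieldMap x)) :=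
    FormallyUnramified.of_comp _ (Y.fromSpecResidueField (f x))
  haveI : LocallyOfFinitePresentation (Spec.map (f.residueFieldMap x)) :=
    (HasRingHomProperty.Spec_iff (P := @LocallyOfFinitePresentation)).2
      (RingHom.FinitePresentation.of_finiteType.1 (finite_residueFieldMap f x).finiteType)
  exact Etale.of_formallyUnramified_of_flat _

theorem rdeg_eq_zero_of_formallyUnramified [FormallyUnramified f] [LocallyOfFiniteType f] (x : X) :
    rdeg f x = 0 := by
  letI := (f.residueFieldMap x).hom.toAlgebra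
  haveI : Algebra.IsSeparable (Y.residueField (f x)) (X.residueField x) := inferInstance
  haveI : Algebra.IsAlgebraic (Y.residueField (f x)) (X.residueField x) := inferInstance
  exact trdeg_eq_zero (R := Y.residueField (f x)) (A := X.residueField x)

theorem rdeg_eq_of_sq {U U' V V' : Scheme.{u}} {h : U ⟶ V} {h' : U' ⟶ V'} {a : U' ⟶ U}
    {b : V' ⟶ V} [Etale a] [Etale b] (comm : h' ≫ b = a ≫ h) (u' : U') :
    rdeg h (a u') = rdeg h' u' := by
  have e1 := rdeg_comp a h u'
  have e2 := rdeg_comp h' b u'
  rw [rdeg_eq_zero_of_formallyUnramified a, add_zero] at e1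
  rw [rdeg_eq_zero_of_formallyUnramified b, zero_add] at e2
  rw [← e1, ← e2]
  exact congrArg (rdeg · u') comm.symm

theorem etale_fiberMap {U U' V V' : Scheme.{u}} (h : U ⟶ V) (h' : U' ⟶ V') (a : U' ⟶ U)
    (b : V' ⟶ V) [Etale a] [Etale b] (comm : h' ≫ b = a ≫ h) (v' : V')
    (φ : h'.fiber v' ⟶ h.fiber (b v')) (hφ1 : φ ≫ h.fiberι (b v') = h'.fiberι v' ≫ a)
    (hφ2 : φ ≫ h.fiberToSpecResidueField (b v') = h'.fiberToSpecResidueField v' ≫ Spec.map (b.residueFieldMap v')) :
    Etale φ := by
  have hW : IsPullback (pullback.fst b (V.fromSpecResidueField (b v')))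
      (pullback.snd b (V.fromSpecResidueField (b v'))) b (V.fromSpecResidueField (b v')) :=
    IsPullback.of_hasPullback _ _
  let j : Spec (V'.residueField v') ⟶ pullback b (V.fromSpecResidueField (b v')) :=
    hW.lift (V'.fromSpecResidueField v') (Spec.map (b.residueFieldMap v'))
      (b.SpecMap_residueFieldMap_fromSpecResidueField v').symm
  haveI : Etale (j ≫ pullback.snd b (V.fromSpecResidueField (b v'))) := by
    rw [IsPullback.lift_snd]
    exact etale_SpecMap_residueFieldMap b v'
  haveI : Etale j := Etale.of_comp j (pullback.snd b (V.fromSpecResidueField (b v')))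
  have hP : IsPullback (pullback.fst h' (pullback.fst b (V.fromSpecResidueField (b v'))))
      (pullback.snd h' (pullback.fst b (V.fromSpecResidueField (b v')))) h'
      (pullback.fst b (V.fromSpecResidueField (b v'))) := IsPullback.of_hasPullback _ _
  have hbig := hP.paste_vert hW
  let p' : pullback h' (pullback.fst b (V.fromSpecResidueField (b v'))) ⟶ h.fiber (b v') :=
    pullback.lift (pullback.fst h' (pullback.fst b _) ≫ a)
      (pullback.snd h' (pullback.fst b _) ≫ pullback.snd b _)
      (by rw [Category.assoc, ← comm]; exact hbig.w)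
  have hp : IsPullback (pullback.fst h' (pullback.fst b (V.fromSpecResidueField (b v')))) p' a
      (h.fiberι (b v')) := by
    refine IsPullback.of_bot ?_ ?_ (IsPullback.of_hasPullback h (V.fromSpecResidueField (b v')))
    · rw [show p' ≫ pullback.snd h (V.fromSpecResidueField (b v')) = _ from pullback.lift_snd _ _ _]
      exact comm ▸ hbig
    · exact (pullback.lift_fst _ _ _).symm
  haveI : Etale p' := MorphismProperty.of_isPullback hp ‹Etale a›
  let m : h'.fiber v' ⟶ pullback h' (pullback.fst b (V.fromSpecResidueField (b v'))) :=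
    pullback.lift (h'.fiberι v') (h'.fiberToSpecResidueField v' ≫ j)
      (by rw [Category.assoc, IsPullback.lift_fst]; exact pullback.condition)
  have hm : IsPullback m (h'.fiberToSpecResidueField v')
      (pullback.snd h' (pullback.fst b (V.fromSpecResidueField (b v')))) j := by
    refine IsPullback.of_right ?_ (pullback.lift_snd _ _ _) hP
    rw [pullback.lift_fst, IsPullback.lift_fst]
    exact IsPullback.of_hasPullback h' (V'.fromSpecResidueField v')
  haveI : Etale m := MorphismProperty.of_isPullback hm.flip ‹Etale j›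
  have hφ : φ = m ≫ p' := by
    apply pullback.hom_ext
    · refine hφ1.trans (Eq.symm ((Category.assoc _ _ _).trans ?_))
      refine (congrArg (m ≫ ·) (pullback.lift_fst _ _ _)).trans ?_
      exact (pullback.lift_fst_assoc _ _ _ _)
    · refine hφ2.trans (Eq.symm ((Category.assoc _ _ _).trans ?_))
      refine (congrArg (m ≫ ·) (pullback.lift_snd _ _ _)).trans ?_
      refine (pullback.lift_snd_assoc _ _ _ _).trans ((Category.assoc _ _ _).trans ?_)
      exact congrArg (h'.fiberToSpecResidueField v' ≫ ·) (hW.lift_snd _ _ _)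
  rw [hφ]
  infer_instance

theorem exists_series_lift (g : X ⟶ Y) [Flat g] :
    ∀ (n : ℕ) (l : LTSeries Y), l.length = n → ∀ x : X, g x = l.head →
      ∃ l' : LTSeries X, l'.length = n ∧ l'.head = x := by
  intro n
  induction n with
  | zero => intro l _ x _; exact ⟨RelSeries.singleton _ x, rfl, rfl⟩
  | succ n ih =>
    intro l hl x hx
    have h0 : l.length ≠ 0 := by omega
    have hlt : l.head < (l.tail h0).head := by
      rw [RelSeries.head_tail]
      exact LTSeries.strictMono l (by
        rw [Fin.lt_def, Fin.val_zero, Fin.val_one']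
        rw [Nat.mod_eq_of_lt (by omega)]; omega)
    obtain ⟨hsp, hne⟩ := VarDim.lt_iff_specializes_and_ne.1 hlt
    obtain ⟨x₁, hx₁, hgx⟩ := Flat.generalizingMap g (hx ▸ hsp)
    obtain ⟨l', hl', hl'h⟩ := ih (l.tail h0) (by simp [RelSeries.tail, hl]) x₁ hgx
    have : x < l'.head := hl'h.symm ▸ VarDim.lt_iff_specializes_and_ne.2
      ⟨hx₁, fun e => hne (by rw [← hx, ← hgx, e])⟩
    refine ⟨l'.cons x this, ?_, RelSeries.head_cons _ _ _⟩
    change 0 + l'.length + 1 = n + 1
    omega

/-- An étale morphism preserves dimension on the nose when it is surjective. -/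
theorem dim_eq_of_etale (g : X ⟶ Y) [Etale g] [Surjective g] :
    topologicalKrullDim X = topologicalKrullDim Y := by
  rw [VarDim.scheme_dim_eq_iSup_height, VarDim.scheme_dim_eq_iSup_height,
    ← Order.krullDim_eq_iSup_height, ← Order.krullDim_eq_iSup_height]
  refine le_antisymm (Order.krullDim_le_of_strictMono g fun p q hpq => ?_) ?_
  · rw [VarDim.lt_iff_specializes_and_ne] at hpq ⊢
    refine ⟨hpq.1.map g.continuous, fun e => ?_⟩
    have h1 := rd_lt_of_specializes g hpq.1 (Ne.symm hpq.2) e.symm
    have h2 : rd g q = 0 := by rw [rd, rdeg_eq_zero_of_formallyUnramified, map_zero]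
    omega
  · rw [Order.krullDim]
    refine iSup_le fun l => ?_
    obtain ⟨x, hx⟩ := g.surjective l.head
    obtain ⟨l', hl', -⟩ := exists_series_lift g l.length l rfl x hx
    exact hl' ▸ le_iSup (fun l : LTSeries X => (l.length : WithBot ℕ∞)) l'

theorem localDim_eq_of_etale (g : X ⟶ Y) [Etale g] (x : X) :
    FlatMor.localDim X x = FlatMor.localDim Y (g x) := by
  have key : ∀ (W : X.Opens) (V : Y.Opens), g '' (W : Set X) = V →
      topologicalKrullDim (W : Set X) = topologicalKrullDim (V : Set Y) := by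
    intro W V hWV
    have e : W ≤ g ⁻¹ᵁ V := fun w hw => by
      change g w ∈ (V : Set Y)
      rw [← hWV]; exact ⟨w, hw, rfl⟩
    haveI : Surjective (g.resLE V W e) := ⟨fun v => by
      obtain ⟨w, hw, hwv⟩ : v.1 ∈ g '' (W : Set X) := hWV.symm ▸ v.2
      exact ⟨⟨w, hw⟩, Subtype.ext ((congr($(g.resLE_comp_ι e) ⟨w, hw⟩)).trans hwv)⟩⟩
    exact dim_eq_of_etale (g.resLE V W e)
  refine le_antisymm (le_iInf fun V => ?_) (le_iInf fun W => ?_)
  · refine iInf_le_of_le ⟨g ⁻¹ᵁ V.1, V.2⟩ ?_
    rw [key (g ⁻¹ᵁ V.1) ⟨g '' (g ⁻¹ᵁ V.1 : Set X), g.isOpenMap _ (g ⁻¹ᵁ V.1).isOpen⟩ rfl]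
    exact Topology.IsInducing.topologicalKrullDim_le
      (Topology.IsEmbedding.inclusion (show g '' (g ⁻¹ᵁ V.1 : Set X) ⊆ (V.1 : Set Y) from
        Set.image_preimage_subset _ _)).isInducing
  · refine iInf_le_of_le ⟨⟨g '' (W.1 : Set X), g.isOpenMap _ W.1.isOpen⟩, ⟨x, W.2, rfl⟩⟩ ?_
    exact (key W.1 ⟨g '' (W.1 : Set X), g.isOpenMap _ W.1.isOpen⟩ rfl).ge

theorem fibreDimAt_eq_of_sq {U U' V V' : Scheme.{u}} (h : U ⟶ V) (h' : U' ⟶ V') (a : U' ⟶ U)
    (b : V' ⟶ V) [Etale a] [Etale b] (comm : h' ≫ b = a ≫ h) (u' : U') :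
    FlatMor.fibreDimAt h (a u') = FlatMor.fibreDimAt h' u' := by
  obtain ⟨z, hz⟩ : ∃ z, h'.fiberι (h' u') z = u' := ⟨h'.asFiber u', h'.fiberι_asFiber u'⟩
  let φ : h'.fiber (h' u') ⟶ h.fiber (b (h' u')) :=
    pullback.lift (h'.fiberι (h' u') ≫ a)
      (h'.fiberToSpecResidueField (h' u') ≫ Spec.map (b.residueFieldMap (h' u')))
      (by rw [Category.assoc, ← comm, Category.assoc, Scheme.Hom.SpecMap_residueFieldMap_fromSpecResidueField,
        ← Category.assoc, h'.fiber_fac, Category.assoc])
  haveI : Etale φ := etale_fiberMap h h' a b comm (h' u') φ (pullback.lift_fst _ _ _) (pullback.lift_snd _ _ _)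
  have hpt : h.fiberι (b (h' u')) (φ z) = a u' := by
    rw [← Scheme.Hom.comp_apply, show φ ≫ h.fiberι (b (h' u')) = _ from pullback.lift_fst _ _ _,
      Scheme.Hom.comp_apply, hz]
  have hb : h (a u') = b (h' u') := by
    rw [← Scheme.Hom.comp_apply, ← comm, Scheme.Hom.comp_apply]
  have gen : ∀ (v : V) (w : h.fiber v), h (a u') = v → h.fiberι v w = a u' →
      FlatMor.localDim (h.fiber v) w = FlatMor.fibreDimAt h (a u') := by
    rintro v w rfl hw
    exact congrArg (FlatMor.localDim (h.fiber (h (a u'))))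
      ((h.fiberι _).isEmbedding.injective (hw.trans (h.fiberι_asFiber (a u')).symm))
  rw [← gen _ (φ z) hb hpt, ← localDim_eq_of_etale φ z]
  exact congrArg (FlatMor.localDim (h'.fiber (h' u')))
    ((h'.fiberι _).isEmbedding.injective (hz.trans (h'.fiberι_asFiber u').symm))

end Groth.Agent.EtaleFibre12
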